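import Groth.Agent.StrictFlatVal.Basic
import Groth.Prelude.Def_BlowUp2

/-!
Strict transforms of modules, and affine blow-up algebras inside a valuation ring.
-/

set_option synthInstance.maxHeartbeats 100000
set_option maxHeartbeats 1000000
set_option autoImplicit false

universe u

open TensorProduct

namespace Groth.Agent.StrictFlatVal

theorem flat_quotient_powTorsion_of_retract {R T : Type u} [CommRing R] [CommRing T] [Algebra R T]
    {P M : Type u} [CommRing P] [Algebra R P] [AddCommGroup M] [Module R M] (a : R)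
    (i : M →ₗ[R] P) (r : P →ₗ[R] M) (hri : r.comp i = LinearMap.id)
    [Module.Flat T ((T ⊗[R] P) ⧸ FlatCA.powTorsion (T ⊗[R] P) (algebraMap R (T ⊗[R] P) a) (T ⊗[R] P))] :
    Module.Flat T ((T ⊗[R] M) ⧸ FlatCA.powTorsion T (algebraMap R T a) (T ⊗[R] M)) := by
  let τM := FlatCA.powTorsion T (algebraMap R T a) (T ⊗[R] M)
  let τP := FlatCA.powTorsion (T ⊗[R] P) (algebraMap R (T ⊗[R] P) a) (T ⊗[R] P)
  let i' := AlgebraTensorModule.lTensor T T i
  let r' := AlgebraTensorModule.lTensor T T r
  have hsmul : ∀ (k : ℕ) (x : T ⊗[R] P),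
      algebraMap R (T ⊗[R] P) a ^ k • x = algebraMap R T a ^ k • x := fun k x => by
    rw [smul_eq_mul, IsScalarTower.algebraMap_apply R T (T ⊗[R] P), ← map_pow, ← Algebra.smul_def]
  have hi : τM ≤ (τP.restrictScalars T).comap i' := fun x hx => by
    obtain ⟨k, hk⟩ := (mem_powTorsion _ _).1 hx
    refine (mem_powTorsion _ _).2 ⟨k, ?_⟩
    rw [hsmul, ← map_smul, hk, map_zero]
  have hr : τP.restrictScalars T ≤ τM.comap r' := fun x hx => by
    obtain ⟨k, hk⟩ := (mem_powTorsion _ _).1 (show x ∈ τP from hx)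
    refine (mem_powTorsion _ _).2 ⟨k, ?_⟩
    rw [← map_smul, ← hsmul, hk, map_zero]
  haveI : Module.Flat T ((T ⊗[R] P) ⧸ τP.restrictScalars T) :=
    Module.Flat.of_linearEquiv (Submodule.Quotient.restrictScalarsEquiv T τP)
  refine Module.Flat.of_retract (Submodule.mapQ τM (τP.restrictScalars T) i' hi)
    (Submodule.mapQ (τP.restrictScalars T) τM r' hr) ?_
  refine LinearMap.ext fun x => ?_
  obtain ⟨x, rfl⟩ := Submodule.Quotient.mk_surjective _ x
  rw [LinearMap.comp_apply, Submodule.mapQ_apply, Submodule.mapQ_apply, LinearMap.id_apply]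
  congr 1
  induction x using TensorProduct.induction_on with
  | zero => simp
  | add x y hx hy => simp [map_add, hx, hy]
  | tmul t m => simp [i', r', show r (i m) = m from LinearMap.congr_fun hri m]

/-- The strict transform of a finite module. -/
theorem exists_finset_strict_module {R K A : Type u} [CommRing R] [IsDomain R] [Field K] [Algebra R K]
    [IsFractionRing R K] [CommRing A] [IsDomain A] [ValuationRing A] [Algebra A K] [IsFractionRing A K]
    [Algebra R A] [IsScalarTower R A K] (S : Type u) [CommRing S] [Algebra R S] [Algebra.FiniteType R S]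
    (M : Type u) [AddCommGroup M] [Module S M] [Module R M] [IsScalarTower R S M] [Module.Finite S M] :
    ∃ (F : Finset A) (c : R), c ≠ 0 ∧ ∀ (T : Type u) [CommRing T] [Algebra R T] (j : T →ₐ[R] A),
      Function.Injective j → (F : Set A) ⊆ Set.range j → ∀ a : R, a ≠ 0 → c ∣ a →
        Module.Flat T ((T ⊗[R] M) ⧸ FlatCA.powTorsion T (algebraMap R T a) (T ⊗[R] M)) := by
  letI : Module Sᵐᵒᵖ M := Module.compHom M ((RingHom.id S).fromOpposite mul_comm)
  haveI : IsCentralScalar S M := ⟨fun _ _ => rfl⟩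
  haveI : IsScalarTower R Sᵐᵒᵖ M := ⟨fun r s m => smul_assoc r (MulOpposite.unop s) m⟩
  haveI : Algebra.FiniteType R (TrivSqZeroExt S M) := by
    haveI : Module.Finite S (TrivSqZeroExt S M) := Module.Finite.prod (R := S) (M := S) (N := M)
    exact Algebra.FiniteType.trans (R := R) (S := S) (A := TrivSqZeroExt S M) inferInstance inferInstance
  obtain ⟨F, c, hc, h⟩ := exists_finset_strict (R := R) (K := K) (A := A) (TrivSqZeroExt S M)
  refine ⟨F, c, hc, fun T _ _ j hj hF a ha hca => ?_⟩
  haveI := (h T j hj hF a ha hca).1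
  exact flat_quotient_powTorsion_of_retract a ((TrivSqZeroExt.inrHom S M).restrictScalars R)
    ((TrivSqZeroExt.sndHom S M).restrictScalars R) (LinearMap.ext fun m => rfl)

/-- An affine blow-up algebra whose fractions lie in a subring `A` of the fraction field maps into `A`. -/
theorem exists_hom_affineAlgebra {R K A : Type u} [CommRing R] [IsDomain R] [Field K] [Algebra R K]
    [IsFractionRing R K] [CommRing A] [IsDomain A] [Algebra A K] [IsFractionRing A K]
    [Algebra R A] [IsScalarTower R A K] (I : Ideal R) (a : R) (ha : a ≠ 0)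
    (hI : ∀ x ∈ I, ∃ y : A, algebraMap A K y * algebraMap R K a = algebraMap R K x) :
    ∃ φ : ↥(BlowUp.affineAlgebra R I a) →ₐ[R] A, Function.Injective φ ∧
      ∀ y : A, ∀ x ∈ I, algebraMap A K y * algebraMap R K a = algebraMap R K x → y ∈ Set.range φ := by
  classical
  have hu : IsUnit (algebraMap R K a) := Ne.isUnit ((map_ne_zero_iff _ (IsFractionRing.injective R K)).2 ha)
  let ι : Localization.Away a →ₐ[R] K :=
    ⟨IsLocalization.Away.lift a hu, fun r => IsLocalization.Away.lift_eq a hu r⟩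
  have hι : Function.Injective ι := by
    refine (injective_iff_map_eq_zero ι).2 fun q hq => ?_
    obtain ⟨r, ⟨_, k, rfl⟩, rfl⟩ := IsLocalization.exists_mk'_eq (Submonoid.powers a) q
    have h1 : algebraMap R K r = 0 := by
      rw [← ι.commutes r, ← IsLocalization.mk'_spec (Localization.Away a) r ⟨a ^ k, pow_mem (Submonoid.mem_powers a) k⟩, map_mul, hq, zero_mul]
    rw [(map_eq_zero_iff _ (IsFractionRing.injective R K)).1 h1, IsLocalization.mk'_zero]
  let f : A →ₐ[R] K := IsScalarTower.toAlgHom R A K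
  have hf : Function.Injective f := IsFractionRing.injective A K
  have hgen : ∀ x ∈ I, ι (IsLocalization.mk' (Localization.Away a) x ⟨a, Submonoid.mem_powers a⟩) * algebraMap R K a =
      algebraMap R K x := fun x _ => by
    rw [← ι.commutes a, ← map_mul, IsLocalization.mk'_spec, ι.commutes]
  have hle : BlowUp.affineAlgebra R I a ≤ f.range.comap ι := by
    refine Algebra.adjoin_le ?_
    rintro _ ⟨x, hx, rfl⟩
    obtain ⟨y, hy⟩ := hI x hx
    exact ⟨y, mul_right_cancel₀ hu.ne_zero (hy.trans (hgen x hx).symm)⟩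
  let g : ↥(BlowUp.affineAlgebra R I a) →ₐ[R] f.range :=
    (ι.comp (BlowUp.affineAlgebra R I a).val).codRestrict f.range fun z => hle z.2
  let φ : ↥(BlowUp.affineAlgebra R I a) →ₐ[R] A := (AlgEquiv.ofInjective f hf).symm.toAlgHom.comp g
  have hφ : ∀ z, f (φ z) = ι z := fun z => congrArg Subtype.val ((AlgEquiv.ofInjective f hf).apply_symm_apply (g z))
  refine ⟨φ, fun z z' h => Subtype.ext (hι (by rw [← hφ, ← hφ, h])), fun y x hx hy => ?_⟩
  refine ⟨⟨_, Algebra.subset_adjoin ⟨x, hx, rfl⟩⟩, hf ?_⟩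
  rw [hφ]
  exact mul_right_cancel₀ hu.ne_zero ((hgen x hx).trans hy.symm)

/-- Simultaneous denominators. -/
theorem exists_ideal_of_finset {R K A : Type u} [CommRing R] [IsDomain R] [IsLocalRing R] [Field K] [Algebra R K]
    [IsFractionRing R K] [CommRing A] [Algebra A K] [Algebra R A] [IsScalarTower R A K]
    (hm : IsLocalRing.maximalIdeal R ≠ ⊥) (F : Finset A) (c : R) (hc : c ≠ 0) :
    ∃ (I : Ideal R) (a : R), I.FG ∧ I ≤ IsLocalRing.maximalIdeal R ∧ a ∈ I ∧ a ≠ 0 ∧ c ∣ a ∧
      (∀ x ∈ I, ∃ y : A, algebraMap A K y * algebraMap R K a = algebraMap R K x) ∧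
      ∀ y ∈ F, ∃ x ∈ I, algebraMap A K y * algebraMap R K a = algebraMap R K x := by
  classical
  obtain ⟨⟨d, hd⟩, hden⟩ := IsLocalization.exist_integer_multiples (nonZeroDivisors R) F (fun y => algebraMap A K y)
  choose! x hx using hden
  obtain ⟨m, hm, hm0⟩ := Submodule.exists_mem_ne_zero_of_ne_bot hm
  let a := d * (c * m)
  let gens : Finset R := insert a (F.image fun y => x y * (c * m))
  have hy : ∀ y ∈ F, algebraMap A K y * algebraMap R K a = algebraMap R K (x y * (c * m)) := fun y hyF => by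
    rw [map_mul _ (x y) (c * m), show algebraMap R K (x y) = d • algebraMap A K y from hx y hyF, Algebra.smul_def, map_mul]
    ring
  refine ⟨Ideal.span (gens : Set R), a, ⟨gens, rfl⟩, Ideal.span_le.2 fun z hz => ?_,
    Ideal.subset_span (Finset.mem_insert_self _ _), mul_ne_zero (nonZeroDivisors.ne_zero hd) (mul_ne_zero hc hm0),
    ⟨d * m, by ring⟩, fun z hz => ?_,
    fun y hyF => ⟨_, Ideal.subset_span (Finset.mem_insert_of_mem (Finset.mem_image_of_mem _ hyF)), hy y hyF⟩⟩
  · rcases Finset.mem_insert.1 hz with rfl | hz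
    · exact Ideal.mul_mem_left _ _ (Ideal.mul_mem_left _ _ hm)
    · obtain ⟨y, _, rfl⟩ := Finset.mem_image.1 hz
      exact Ideal.mul_mem_left _ _ (Ideal.mul_mem_left _ _ hm)
  · induction hz using Submodule.span_induction with
    | mem z hz =>
      rcases Finset.mem_insert.1 hz with rfl | hz
      · exact ⟨1, by rw [map_one, one_mul]⟩
      · obtain ⟨y, hyF, rfl⟩ := Finset.mem_image.1 hz
        exact ⟨y, hy y hyF⟩
    | zero => exact ⟨0, by rw [map_zero, zero_mul, map_zero]⟩
    | add z z' _ _ h h' =>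
      obtain ⟨y, hy⟩ := h; obtain ⟨y', hy'⟩ := h'
      exact ⟨y + y', by rw [map_add, add_mul, hy, hy', map_add]⟩
    | smul r z _ h =>
      obtain ⟨y, hy⟩ := h
      refine ⟨algebraMap R A r * y, ?_⟩
      rw [map_mul, ← IsScalarTower.algebraMap_apply, mul_assoc, hy, smul_eq_mul, map_mul]

end Groth.Agent.StrictFlatVal
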