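import Groth.Agent.StrictFlatVal.Stage
import Groth.Agent.S0406
import Groth.Prelude.Def_FlatCA

/-!
Strict transforms along subrings of a valuation ring.
-/

set_option synthInstance.maxHeartbeats 100000
set_option maxHeartbeats 1000000
set_option autoImplicit false

universe u

open TensorProduct

namespace Groth.Agent.StrictFlatVal

theorem mem_powTorsion {S M : Type u} [CommRing S] [AddCommGroup M] [Module S M] (x : S) (m : M) :
    m ∈ FlatCA.powTorsion S x M ↔ ∃ k : ℕ, x ^ k • m = 0 := by
  have hmono : Monotone fun k : ℕ => Submodule.torsionBy S M (x ^ k) := fun a b hab m hm => by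
    rw [Submodule.mem_torsionBy_iff] at hm ⊢
    rw [← Nat.sub_add_cancel hab, pow_add, mul_smul, hm, smul_zero]
  rw [FlatCA.powTorsion, Submodule.mem_iSup_of_directed _ hmono.directed_le]
  simp only [Submodule.mem_torsionBy_iff]

theorem isTorsionFree_quotient_comap {A K : Type u} [CommRing A] [IsDomain A] [Field K] [Algebra A K]
    [IsFractionRing A K] {n : ℕ} (L : Ideal (MvPolynomial (Fin n) K)) :
    Module.IsTorsionFree A (MvPolynomial (Fin n) A ⧸ L.comap (MvPolynomial.map (algebraMap A K))) := by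
  refine Module.isTorsionFree_iff_smul_eq_zero.2 fun r m hrm => ?_
  by_cases hr : r = 0
  · exact Or.inl hr
  refine Or.inr ?_
  obtain ⟨p, rfl⟩ := Ideal.Quotient.mk_surjective m
  rw [← Ideal.Quotient.mkₐ_eq_mk A, ← map_smul, Ideal.Quotient.mkₐ_eq_mk, Algebra.smul_def,
    Ideal.Quotient.eq_zero_iff_mem] at hrm
  rw [Ideal.Quotient.eq_zero_iff_mem]
  rw [Ideal.mem_comap, map_mul] at hrm
  have hu : IsUnit (MvPolynomial.map (algebraMap A K) (algebraMap A (MvPolynomial (Fin n) A) r)) := by
    rw [MvPolynomial.algebraMap_eq, MvPolynomial.map_C]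
    exact ((Ne.isUnit ((map_ne_zero_iff _ (IsFractionRing.injective A K)).2 hr)).map MvPolynomial.C)
  exact (L.unit_mul_mem_iff_mem hu).1 hrm

/-- The strict transforms of an algebra of finite type are flat and finitely presented over every
large enough subring of a valuation ring. -/
theorem exists_finset_strict {R K A : Type u} [CommRing R] [IsDomain R] [Field K] [Algebra R K]
    [IsFractionRing R K] [CommRing A] [IsDomain A] [ValuationRing A] [Algebra A K] [IsFractionRing A K]
    [Algebra R A] [IsScalarTower R A K] (S : Type u) [CommRing S] [Algebra R S] [Algebra.FiniteType R S] :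
    ∃ (F : Finset A) (c : R), c ≠ 0 ∧ ∀ (T : Type u) [CommRing T] [Algebra R T] (j : T →ₐ[R] A),
      Function.Injective j → (F : Set A) ⊆ Set.range j → ∀ a : R, a ≠ 0 → c ∣ a →
        Module.Flat T ((T ⊗[R] S) ⧸ FlatCA.powTorsion (T ⊗[R] S) (algebraMap R (T ⊗[R] S) a) (T ⊗[R] S)) ∧
        Algebra.FinitePresentation T
          ((T ⊗[R] S) ⧸ FlatCA.powTorsion (T ⊗[R] S) (algebraMap R (T ⊗[R] S) a) (T ⊗[R] S)) := by
  classical
  obtain ⟨n, π, hπ⟩ := Algebra.FiniteType.iff_quotient_mvPolynomial''.mp ‹Algebra.FiniteType R S›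
  let I : Ideal (MvPolynomial (Fin n) R) := RingHom.ker π
  let L : Ideal (MvPolynomial (Fin n) K) := I.map (MvPolynomial.map (algebraMap R K))
  let JA : Ideal (MvPolynomial (Fin n) A) := L.comap (MvPolynomial.map (algebraMap A K))
  haveI : Module.IsTorsionFree A (MvPolynomial (Fin n) A ⧸ JA) := isTorsionFree_quotient_comap L
  haveI : Module.Flat A (MvPolynomial (Fin n) A ⧸ JA) := by
    rw [Module.Flat.flat_iff_torsion_eq_bot_of_isBezout, ← Submodule.isTorsionFree_iff_torsion_eq_bot]
    infer_instance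
  have hfp : Algebra.FinitePresentation A (MvPolynomial (Fin n) A ⧸ JA) := S0406.result
  obtain ⟨G, hG⟩ : JA.FG := by
    rw [← Ideal.Quotient.mkₐ_ker A JA]
    exact Algebra.FinitePresentation.ker_fG_of_surjective (Ideal.Quotient.mkₐ A JA) Ideal.Quotient.mk_surjective
  haveI : Module.Flat A (MvPolynomial (Fin n) A ⧸ Ideal.span (G : Set (MvPolynomial (Fin n) A))) :=
    Module.Flat.of_linearEquiv (Ideal.quotientEquivAlgOfEq A hG).toLinearEquiv
  obtain ⟨F, hF⟩ := exists_stage G
  -- clearing denominators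
  letI := (MvPolynomial.map (σ := Fin n) (algebraMap R K)).toAlgebra
  haveI : IsLocalization ((nonZeroDivisors R).map (MvPolynomial.C : R →+* MvPolynomial (Fin n) R))
      (MvPolynomial (Fin n) K) := MvPolynomial.isLocalization (nonZeroDivisors R) K
  have hclear : ∀ g ∈ G, ∃ (c : R) (i : MvPolynomial (Fin n) R), c ≠ 0 ∧ i ∈ I ∧
      MvPolynomial.C (algebraMap R K c) * MvPolynomial.map (algebraMap A K) g =
        MvPolynomial.map (algebraMap R K) i := by
    intro g hg
    have hgJ : MvPolynomial.map (algebraMap A K) g ∈ I.map (algebraMap (MvPolynomial (Fin n) R) (MvPolynomial (Fin n) K)) :=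
      (hG.le (Ideal.subset_span hg) : g ∈ JA)
    obtain ⟨⟨⟨i, hi⟩, ⟨_, c, hc, rfl⟩⟩, h⟩ :=
      (IsLocalization.mem_map_algebraMap_iff ((nonZeroDivisors R).map (MvPolynomial.C : R →+* MvPolynomial (Fin n) R))
        (MvPolynomial (Fin n) K)).1 hgJ
    refine ⟨c, i, nonZeroDivisors.ne_zero hc, hi, ?_⟩
    rw [mul_comm, ← MvPolynomial.map_C]
    exact h
  choose! cg ig hcg hig heq using hclear
  refine ⟨F, ∏ g ∈ G, cg g, Finset.prod_ne_zero_iff.2 hcg, ?_⟩
  intro T _ _ j hj hFj a ha hca
  obtain ⟨J, hJfg, hJflat, hJspan, hJcomap⟩ := hF T j.toRingHom hj hFj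
  let ψ : MvPolynomial (Fin n) T →ₐ[T] T ⊗[R] S :=
    MvPolynomial.aeval fun i => (1 : T) ⊗ₜ[R] π (MvPolynomial.X i)
  have hψ : ∀ w, ψ (MvPolynomial.map (algebraMap R T) w) = (1 : T) ⊗ₜ[R] π w := by
    intro w
    show MvPolynomial.aeval _ (MvPolynomial.map (algebraMap R T) w) = _
    rw [MvPolynomial.aeval_map_algebraMap]
    exact DFunLike.congr_fun (MvPolynomial.algHom_ext
      (f := MvPolynomial.aeval fun i => (1 : T) ⊗ₜ[R] π (MvPolynomial.X i))
      (g := (Algebra.TensorProduct.includeRight : S →ₐ[R] T ⊗[R] S).comp π)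
      fun i => by rw [MvPolynomial.aeval_X]; rfl) w
  have hψs : Function.Surjective ψ := by
    intro y
    induction y using TensorProduct.induction_on with
    | zero => exact ⟨0, map_zero _⟩
    | add a b ha hb =>
      obtain ⟨u, rfl⟩ := ha
      obtain ⟨v, rfl⟩ := hb
      exact ⟨u + v, map_add _ _ _⟩
    | tmul t s =>
      obtain ⟨w, rfl⟩ := hπ s
      refine ⟨t • MvPolynomial.map (algebraMap R T) w, ?_⟩
      rw [map_smul, hψ, TensorProduct.smul_tmul', smul_eq_mul, mul_one]
  have hψI : ∀ z ∈ I.map (MvPolynomial.map (algebraMap R T)), ψ z = 0 := fun z hz =>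
    (Ideal.map_le_iff_le_comap.2 fun w hw => by
      rw [Ideal.mem_comap, RingHom.mem_ker, hψ, show π w = 0 from hw, TensorProduct.tmul_zero] :
      I.map (MvPolynomial.map (algebraMap R T)) ≤ RingHom.ker ψ) hz
  have hker : ∀ z, ψ z = 0 → z ∈ I.map (MvPolynomial.map (algebraMap R T)) := by
    intro z hz
    let Q := MvPolynomial (Fin n) T ⧸ I.map (MvPolynomial.map (algebraMap R T))
    let σ₀ : MvPolynomial (Fin n) R →ₐ[R] Q :=
      (Ideal.Quotient.mkₐ R _).comp (MvPolynomial.mapAlgHom (Algebra.ofId R T))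
    have hσ : RingHom.ker π ≤ RingHom.ker σ₀ := fun w hw => by
      rw [RingHom.mem_ker]
      exact Ideal.Quotient.eq_zero_iff_mem.2 (Ideal.mem_map_of_mem _ hw)
    let σ : S →ₐ[R] Q := AlgHom.liftOfSurjective π hπ σ₀ hσ
    let χ : T ⊗[R] S →ₐ[T] Q := Algebra.TensorProduct.lift (Algebra.ofId T Q) σ fun _ _ => Commute.all _ _
    have hχ : χ.comp ψ = Ideal.Quotient.mkₐ T _ := MvPolynomial.algHom_ext fun i => by
      show χ (ψ (MvPolynomial.X i)) = _
      rw [show ψ (MvPolynomial.X i) = (1 : T) ⊗ₜ[R] π (MvPolynomial.X i) from MvPolynomial.aeval_X _ i,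
        Algebra.TensorProduct.lift_tmul, map_one, one_mul]
      erw [AlgHom.liftOfSurjective_apply]
      show Ideal.Quotient.mk _ (MvPolynomial.map (algebraMap R T) (MvPolynomial.X i)) = _
      rw [MvPolynomial.map_X]
      rfl
    have h2 : χ (ψ z) = Ideal.Quotient.mk _ z := DFunLike.congr_fun hχ z
    rw [hz, map_zero] at h2
    exact Ideal.Quotient.eq_zero_iff_mem.1 h2.symm
  let τ := FlatCA.powTorsion (T ⊗[R] S) (algebraMap R (T ⊗[R] S) a) (T ⊗[R] S)
  let Φ : MvPolynomial (Fin n) T →ₐ[T] (T ⊗[R] S) ⧸ τ := (Ideal.Quotient.mkₐ T τ).comp ψ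
  have hΦs : Function.Surjective Φ := Ideal.Quotient.mk_surjective.comp hψs
  have hTK : ∀ z : MvPolynomial (Fin n) T, MvPolynomial.map (algebraMap A K) (MvPolynomial.map j.toRingHom z) =
      MvPolynomial.map ((algebraMap A K).comp j.toRingHom) z := fun z => MvPolynomial.map_map _ _ _
  have hRK : ((algebraMap A K).comp j.toRingHom).comp (algebraMap R T) = algebraMap R K := RingHom.ext fun r => by
    show algebraMap A K (j (algebraMap R T r)) = _
    rw [AlgHom.commutes, ← IsScalarTower.algebraMap_apply]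
  have hmapψ : ∀ k : ℕ, ∀ z, algebraMap R (T ⊗[R] S) a ^ k • ψ z =
      ψ (MvPolynomial.C (algebraMap R T a) ^ k * z) := fun k z => by
    rw [smul_eq_mul, map_mul, map_pow, show ψ (MvPolynomial.C (algebraMap R T a)) = algebraMap T (T ⊗[R] S) (algebraMap R T a)
      from ψ.commutes _, ← IsScalarTower.algebraMap_apply]
  have hkerΦ : RingHom.ker Φ = J := by
    apply le_antisymm
    · intro z hz
      rw [RingHom.mem_ker] at hz
      obtain ⟨k, hk⟩ := (mem_powTorsion _ _).1 (Ideal.Quotient.eq_zero_iff_mem.1 hz : ψ z ∈ τ)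
      rw [hmapψ] at hk
      have h1 := Ideal.mem_map_of_mem (MvPolynomial.map ((algebraMap A K).comp j.toRingHom)) (hker _ hk)
      rw [Ideal.map_map, map_mul, map_pow, MvPolynomial.map_C] at h1
      have h2 : (MvPolynomial.map (σ := Fin n) ((algebraMap A K).comp j.toRingHom)).comp
          (MvPolynomial.map (algebraMap R T)) = MvPolynomial.map (algebraMap R K) := RingHom.ext fun p => by
        rw [RingHom.comp_apply, MvPolynomial.map_map, hRK]
      rw [h2, ← RingHom.comp_apply ((algebraMap A K).comp j.toRingHom), hRK] at h1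
      have hu : IsUnit ((MvPolynomial.C (algebraMap R K a) : MvPolynomial (Fin n) K) ^ k) :=
        ((Ne.isUnit ((map_ne_zero_iff _ (IsFractionRing.injective R K)).2 ha)).map MvPolynomial.C).pow k
      rw [hJcomap, hG, Ideal.mem_comap]
      show MvPolynomial.map (algebraMap A K) (MvPolynomial.map j.toRingHom z) ∈ L
      rw [hTK]
      exact (L.unit_mul_mem_iff_mem hu).1 h1
    · rw [hJspan, Ideal.span_le]
      intro z hz
      have hzG : MvPolynomial.map j.toRingHom z ∈ G := hz
      obtain ⟨b, rfl⟩ : cg (MvPolynomial.map j.toRingHom z) ∣ a := (Finset.dvd_prod_of_mem cg hzG).trans hca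
      rw [SetLike.mem_coe, RingHom.mem_ker]
      refine Ideal.Quotient.eq_zero_iff_mem.2 ((mem_powTorsion _ _).2 ⟨1, ?_⟩)
      refine (hmapψ 1 z).trans ?_; rw [pow_one]
      refine hψI _ ?_
      have hinjK : Function.Injective (MvPolynomial.map (σ := Fin n) ((algebraMap A K).comp j.toRingHom)) :=
        MvPolynomial.map_injective _ ((IsFractionRing.injective A K).comp hj)
      have key : MvPolynomial.C (algebraMap R T (cg (MvPolynomial.map j.toRingHom z))) * z =
          MvPolynomial.map (algebraMap R T) (ig (MvPolynomial.map j.toRingHom z)) := by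
        apply hinjK
        rw [map_mul, MvPolynomial.map_C, ← RingHom.comp_apply ((algebraMap A K).comp j.toRingHom), hRK,
          MvPolynomial.map_map, hRK, ← heq _ hzG, hTK]
      rw [map_mul (algebraMap R T), map_mul MvPolynomial.C, mul_comm (MvPolynomial.C (algebraMap R T (cg _))),
        mul_assoc, key]
      exact Ideal.mul_mem_left _ _ (Ideal.mem_map_of_mem _ (hig _ hzG))
  let e : (MvPolynomial (Fin n) T ⧸ J) ≃ₐ[T] (T ⊗[R] S) ⧸ τ :=
    (Ideal.quotientEquivAlgOfEq T hkerΦ.symm).trans (Ideal.quotientKerAlgEquivOfSurjective hΦs)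
  haveI := hJflat
  haveI : Algebra.FinitePresentation T (MvPolynomial (Fin n) T ⧸ J) := Algebra.FinitePresentation.quotient hJfg
  exact ⟨Module.Flat.of_linearEquiv e.symm.toLinearEquiv, Algebra.FinitePresentation.equiv e⟩

end Groth.Agent.StrictFlatVal
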