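import Groth.Agent.SrcDescent.FlatModelAlg
import Groth.Agent.FibFlat.Descent

/-!
A flat finitely presented quotient of a polynomial ring descends, along injective maps, to every
subring containing a suitable finite set.
-/

set_option synthInstance.maxHeartbeats 100000
set_option autoImplicit false

universe u

open TensorProduct

namespace Groth.Agent.StrictFlatVal

theorem comap_map_eq_of_flat {T A : Type u} [CommRing T] [CommRing A] [Algebra T A] {n : ℕ}
    (hinj : Function.Injective (algebraMap T A)) (J : Ideal (MvPolynomial (Fin n) T))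
    [Module.Flat T (MvPolynomial (Fin n) T ⧸ J)] :
    (J.map (MvPolynomial.map (algebraMap T A))).comap (MvPolynomial.map (algebraMap T A)) = J := by
  refine le_antisymm (fun z hz => ?_) Ideal.le_comap_map
  let Q := MvPolynomial (Fin n) T ⧸ J
  let ψ : MvPolynomial (Fin n) A →ₐ[A] A ⊗[T] Q :=
    MvPolynomial.aeval fun i => (1 : A) ⊗ₜ[T] Ideal.Quotient.mk J (MvPolynomial.X i)
  have hψ : ∀ w, ψ (MvPolynomial.map (algebraMap T A) w) = (1 : A) ⊗ₜ[T] Ideal.Quotient.mk J w := by
    intro w
    let f₁ : MvPolynomial (Fin n) T →ₐ[T] A ⊗[T] Q :=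
      (Algebra.TensorProduct.includeRight : Q →ₐ[T] A ⊗[T] Q).comp (Ideal.Quotient.mkₐ T J)
    show MvPolynomial.aeval _ (MvPolynomial.map (algebraMap T A) w) = f₁ w
    rw [MvPolynomial.aeval_map_algebraMap]
    exact DFunLike.congr_fun (MvPolynomial.algHom_ext
      (f := MvPolynomial.aeval fun i => (1 : A) ⊗ₜ[T] Ideal.Quotient.mk J (MvPolynomial.X i)) (g := f₁)
      fun i => by rw [MvPolynomial.aeval_X]; rfl) w
  have h0 : (1 : A) ⊗ₜ[T] Ideal.Quotient.mk J z = 0 := by
    rw [← hψ]
    have hle : J.map (MvPolynomial.map (algebraMap T A)) ≤ RingHom.ker ψ :=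
      Ideal.map_le_iff_le_comap.2 fun w hw => by
        rw [Ideal.mem_comap, RingHom.mem_ker, hψ, Ideal.Quotient.eq_zero_iff_mem.2 hw, TensorProduct.tmul_zero]
    exact hle hz
  have hi : Function.Injective ((Algebra.linearMap T A).rTensor Q) :=
    Module.Flat.rTensor_preserves_injective_linearMap _ hinj
  have h1 : (Algebra.linearMap T A).rTensor Q ((1 : T) ⊗ₜ[T] Ideal.Quotient.mk J z) = 0 := by
    rw [LinearMap.rTensor_tmul, Algebra.linearMap_apply, map_one, h0]
  have h2 := congrArg (TensorProduct.lid T Q) (hi (h1.trans (map_zero _).symm))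
  exact Ideal.Quotient.eq_zero_iff_mem.1 (by simpa using h2)

/-- A flat finitely presented quotient of a polynomial ring comes from every large enough subring. -/
theorem exists_stage {A : Type u} [CommRing A] {n : ℕ} (G : Finset (MvPolynomial (Fin n) A))
    [Module.Flat A (MvPolynomial (Fin n) A ⧸ Ideal.span (G : Set (MvPolynomial (Fin n) A)))] :
    ∃ F : Finset A, ∀ (T : Type u) [CommRing T] (j : T →+* A), Function.Injective j → (F : Set A) ⊆ Set.range j →
      ∃ J : Ideal (MvPolynomial (Fin n) T), J.FG ∧ Module.Flat T (MvPolynomial (Fin n) T ⧸ J) ∧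
        J = Ideal.span (MvPolynomial.map j ⁻¹' (G : Set (MvPolynomial (Fin n) A))) ∧
        J = (Ideal.span (G : Set (MvPolynomial (Fin n) A))).comap (MvPolynomial.map j) := by
  classical
  let c : Finset A := G.biUnion fun g => g.coeffs
  let A₀ : Subalgebra ℤ A := Algebra.adjoin ℤ (c : Set A)
  have hA₀ : A₀.FG := Subalgebra.fg_adjoin_finset c
  have : Algebra.FiniteType ℤ A₀ := (Subalgebra.fg_iff_finiteType A₀).1 hA₀
  have : IsNoetherianRing A₀ := Algebra.FiniteType.isNoetherianRing ℤ A₀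
  have hlift : ∀ g ∈ G, ∃ q : MvPolynomial (Fin n) A₀, MvPolynomial.map (algebraMap A₀ A) q = g := fun g hg =>
    MvPolynomial.mem_range_map_iff_coeffs_subset.2 fun x hx =>
      ⟨⟨x, Algebra.subset_adjoin (Finset.mem_biUnion.2 ⟨g, hg, hx⟩)⟩, rfl⟩
  choose! lg hlg using hlift
  let I₀ : Ideal (MvPolynomial (Fin n) A₀) := Ideal.span (lg '' (G : Set (MvPolynomial (Fin n) A)))
  have hI₀ : I₀.map (MvPolynomial.map (algebraMap A₀ A)) = Ideal.span (G : Set (MvPolynomial (Fin n) A)) := by
    rw [Ideal.map_span, Set.image_image, Set.image_congr fun g hg => hlg g hg, Set.image_id']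
  let K₀ : Submodule (MvPolynomial (Fin n) A₀) (FlatModel.V 1 n A₀) := FibFlat.relMod I₀
  have hA : FlatModel.FlatC K₀ A := by
    rw [FibFlat.flatC_relMod_iff, hI₀]
    infer_instance
  obtain ⟨A₂, hA₂, hflat⟩ := FlatModel.exists_fg_flatC K₀ hA
  rw [FibFlat.flatC_relMod_iff] at hflat
  obtain ⟨F₂, hF₂⟩ := hA₂
  refine ⟨c ∪ F₂, fun T _ j hj hF => ?_⟩
  have hA₀j : ∀ x : A₀, (x : A) ∈ j.range := by
    intro x
    exact Algebra.adjoin_le (S := subalgebraOfSubring j.range)
      (fun y hy => hF (Finset.mem_union_left _ hy)) x.2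
  have hA₂j : ∀ x : A₂, (x : A) ∈ j.range := by
    intro x
    let S₀ : Subalgebra A₀ A := { (j.range : Subring A) with algebraMap_mem' := fun r => hA₀j r }
    exact (hF₂ ▸ Algebra.adjoin_le (S := S₀) (fun y hy => hF (Finset.mem_union_right _ hy)) : A₂ ≤ S₀) x.2
  let e : T ≃+* j.range := RingEquiv.ofBijective j.rangeRestrict
    ⟨fun a b h => hj (congrArg Subtype.val h), j.rangeRestrict_surjective⟩
  have hje : ∀ x, j (e.symm x) = x := fun x => congrArg Subtype.val (e.apply_symm_apply x)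
  let φ₂ : A₂ →+* T := e.symm.toRingHom.comp ((A₂.val.toRingHom).codRestrict j.range hA₂j)
  have hjφ₂ : ∀ x, j (φ₂ x) = x := fun x => hje _
  letI : Algebra A₀ T := (φ₂.comp (algebraMap A₀ A₂)).toAlgebra
  letI : Algebra A₂ T := φ₂.toAlgebra
  haveI : IsScalarTower A₀ A₂ T := IsScalarTower.of_algebraMap_eq' rfl
  letI : Algebra T A := j.toAlgebra
  haveI : IsScalarTower A₀ T A := IsScalarTower.of_algebraMap_eq fun x => (hjφ₂ (algebraMap A₀ A₂ x)).symm
  let J : Ideal (MvPolynomial (Fin n) T) := I₀.map (MvPolynomial.map (algebraMap A₀ T))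
  have hmm : (MvPolynomial.map (σ := Fin n) j).comp (MvPolynomial.map (algebraMap A₀ T)) =
      MvPolynomial.map (algebraMap A₀ A) := RingHom.ext fun p => by
    rw [RingHom.comp_apply, MvPolynomial.map_map, show j.comp (algebraMap A₀ T) = algebraMap A₀ A from
      (IsScalarTower.algebraMap_eq A₀ T A).symm]
  have hJflat : Module.Flat T (MvPolynomial (Fin n) T ⧸ J) := by
    obtain ⟨t₂⟩ := SrcDescent.nonempty_quotient_map_algEquiv (A' := A₂) I₀
    obtain ⟨t⟩ := SrcDescent.nonempty_quotient_map_algEquiv (A' := T) I₀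
    haveI : Module.Flat A₂ (A₂ ⊗[A₀] (MvPolynomial (Fin n) A₀ ⧸ I₀)) :=
      Module.Flat.of_linearEquiv t₂.toLinearEquiv.symm
    exact Module.Flat.of_linearEquiv (t.trans
      (Algebra.TensorProduct.cancelBaseChange A₀ A₂ T T (MvPolynomial (Fin n) A₀ ⧸ I₀)).symm).toLinearEquiv
  have hJ : J = (Ideal.span (G : Set (MvPolynomial (Fin n) A))).comap (MvPolynomial.map j) := by
    have h := comap_map_eq_of_flat (A := A) (T := T) hj J
    rw [← hI₀, ← hmm, ← Ideal.map_map]
    exact h.symm
  have hspan : J = Ideal.span (MvPolynomial.map j ⁻¹' (G : Set (MvPolynomial (Fin n) A))) := by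
    refine le_antisymm ?_ (Ideal.span_le.2 fun z hz => ?_)
    · rw [show J = Ideal.span ((MvPolynomial.map (algebraMap A₀ T)) '' (lg '' (G : Set _))) from Ideal.map_span _ _]
      refine Ideal.span_mono ?_
      rintro _ ⟨_, ⟨g, hg, rfl⟩, rfl⟩
      show MvPolynomial.map j (MvPolynomial.map (algebraMap A₀ T) (lg g)) ∈ (G : Set _)
      rw [← RingHom.comp_apply, hmm, hlg g hg]
      exact hg
    · rw [hJ]
      exact Ideal.subset_span (show MvPolynomial.map j z ∈ (G : Set _) from hz)
  refine ⟨J, ?_, hJflat, hspan, hJ⟩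
  exact Ideal.FG.map ⟨G.image lg, by rw [Finset.coe_image]⟩ _

end Groth.Agent.StrictFlatVal
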